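import Groth.Agent.AmpleX.ExtendQS
import Groth.Agent.AmpleX.Sect
import Groth.Agent.AmpleX.QAHom
import Groth.Agent.RLPsi35.VAProj
import Groth.Prelude.Def_MoreMor

/-!
# Ample families
-/

universe u

open CategoryTheory CategoryTheory.Limits AlgebraicGeometry TopologicalSpace Opposite

set_option backward.isDefEq.respectTransparency false
set_option backward.isDefEq.respectTransparency.types false

namespace Groth.Agent.RelPC13.AmpleFam

open Groth.Agent Groth.Agent.AmpleX

variable {X Y : Scheme.{u}}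

/-- Every point lies in the affine locus of a section of an invertible module. -/
def HasLoci (X : Scheme.{u}) : Prop :=
  ∀ x : X, ∃ (N : X.Modules) (_ : PicF.IsInvertible N) (a : Γ(N, ⊤)), x ∈ locus a ∧ IsAffineOpen (locus a)

theorem hasAmpleFamily_of_loci [CompactSpace X] (h : HasLoci X) : MoreMor.HasAmpleFamily X := by
  refine ⟨inferInstance, fun x => ?_⟩
  obtain ⟨N, hN, a, hxa, ha⟩ := h x
  let s := InvX.ofSect a ≫ (RLPsi35.tensorPowOneIso N).inv
  have hG : CohB1.genLocus (CohB1.tensorPow N 1) s = locus a := by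
    refine (InvX.genLocus_comp_iso (InvX.ofSect a) (RLPsi35.tensorPowOneIso N).symm).trans ?_
    rw [genLocus_eq_locus, InvX.one_ofSect]
  exact ⟨N, 1, s, hN, le_rfl, hG ▸ hxa, hG ▸ ha⟩

theorem loci_of_hasAmpleFamily (h : MoreMor.HasAmpleFamily X) : HasLoci X := fun x => by
  obtain ⟨L, n, s, hL, hn, hxs, hs⟩ := h.2 x
  rw [genLocus_eq_locus] at hxs hs
  exact ⟨_, InvX.isInvertible_tensorPow hL n, _, hxs, hs⟩

/-- A scheme covered by affine loci is quasi-separated. -/
theorem quasiSeparatedSpace_of_loci (h : HasLoci X) : QuasiSeparatedSpace X := by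
  choose N hN a hxa ha using h
  exact Scheme.quasiSeparatedSpace_of_isOpenCover (fun x => locus (a x))
    (eq_top_iff.2 fun x _ => Opens.mem_iSup.2 ⟨x, hxa x⟩) ha
    fun i j => (isAffineOpen_inf_locus (hN j) (ha i) (a j) le_top).isCompact

/-- A section over a locus extends to the whole scheme with the same locus after twisting. -/
theorem exists_extend_locus [CompactSpace X] [QuasiSeparatedSpace X] {N M : X.Modules}
    (hN : PicF.IsInvertible N) (hM : PicF.IsInvertible M) (s : Γ(N, ⊤)) {U : X.Opens} (hU : U = locus s)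
    (a : Γ(M, U)) :
    ∃ (P : X.Modules) (_ : PicF.IsInvertible P) (c : Γ(P, ⊤)), locus c = locus a := by
  let G := CohB1.genLocus N (InvX.ofSect s)
  have hG : G = U := by rw [hU]; exact (genLocus_eq_locus _).trans (by rw [InvX.one_ofSect])
  obtain ⟨n, hn⟩ := exists_extend' (ProjUPX.isQCoh_of_isInvertible hM) hN (InvX.ofSect s)
    (AModX.res M hG.le a)
  obtain ⟨T, hT⟩ := hn n le_rfl
  have hNn := InvX.isInvertible_tensorPow hN n
  have hP := InvX.isInvertible_tensorMod hM hNn
  refine ⟨_, InvX.isInvertible_tensorMod hP hN, InvX.tmul T s, ?_⟩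
  have hfr : InvX.IsFrame (AModX.res N (le_top : G ≤ ⊤) (InvX.one (InvX.ofSect s))) := by
    rw [InvX.one_ofSect]
    exact isFrame_res_of_le s (hG.trans hU).le
  have h1 := congrArg locus hT
  rw [locus_res, locus_tmul hM hNn, locus_res, inf_eq_left.2 ((locus_le a).trans hG.ge),
    inf_eq_left.2 (((locus_le a).trans hG.ge).trans (le_locus _ le_rfl (by
      rw [AModX.res_self]; exact isFrame_powElt hfr n)))] at h1
  rw [locus_tmul hP hN]
  exact (congrArg (locus T ⊓ ·) (hG.trans hU).symm).trans h1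

/-- Relative ampleness over a base with an ample family. -/
theorem loci_of_isRelAmple (f : X ⟶ Y) (hY : MoreMor.HasAmpleFamily Y) {L : X.Modules}
    (hL : RelAmple.IsRelAmple f L) : MoreMor.HasAmpleFamily X := by
  haveI := hY.1
  haveI := hL.1
  have hYl := loci_of_hasAmpleFamily hY
  haveI := quasiSeparatedSpace_of_loci hYl
  haveI : IsSeparated f := isSeparated_of_ampleOn fun x => ampleOn_of_isRelAmple hL (f x)
  haveI : CompactSpace X := QuasiCompact.compactSpace_of_compactSpace f
  haveI : QuasiSeparatedSpace X := quasiSeparatedSpace_of_quasiSeparated f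
  have hLi := isInvertible_of_isRelAmple hL
  refine hasAmpleFamily_of_loci fun x => ?_
  obtain ⟨N, hN, b, hxb, hb⟩ := hYl (f x)
  obtain ⟨m, hm, a, hxa, -, ha⟩ := exists_sections_of_isRelAmple hL hb (x := x) hxb
    (U := ⊤) trivial
  obtain ⟨P, hP, c, hc⟩ := exists_extend_locus (PicClLib.isInvertible_pullback f hN)
    (InvX.isInvertible_tensorPow hLi m) (InvX.pullElt f b) (locus_pullElt hN f b).symm a
  exact ⟨P, hP, c, hc ▸ hxa, hc ▸ ha⟩

/-- Opens with ample invertible modules which are loci of sections. -/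
theorem hasAmpleFamily_of_pieces {ι : Type*} [Finite ι] (N : ι → X.Modules) (hN : ∀ i, PicF.IsInvertible (N i))
    (s : ∀ i, Γ(N i, ⊤)) (U : ι → X.Opens) (hU : ∀ i, U i = locus (s i)) (hcov : ∀ x, ∃ i, x ∈ U i)
    (L : ι → X.Modules) (hL : ∀ i, PicF.IsInvertible (L i)) (hamp : ∀ i, CohB1.IsAmple ((L i).restrict (U i).ι)) :
    MoreMor.HasAmpleFamily X := by
  have hc : ∀ i, IsCompact ((U i : X.Opens) : Set X) := fun i => by
    have := (hamp i).2.1
    exact isCompact_iff_compactSpace.2 this
  haveI : CompactSpace X := ⟨by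
    rw [show (Set.univ : Set X) = ⋃ i, (U i : Set X) from (Set.eq_univ_of_forall fun x =>
      Set.mem_iUnion.2 (hcov x)).symm]
    exact isCompact_iUnion hc⟩
  have key : ∀ x : X, ∃ (i : ι) (m : ℕ) (a : Γ(CohB1.tensorPow (L i) m, U i)), x ∈ locus a ∧ IsAffineOpen (locus a) := by
    intro x
    obtain ⟨i, hi⟩ := hcov x
    obtain ⟨m, -, a, hxa, -, ha⟩ := exists_locus_le (U i).ι (hamp i) (x := x)
      (by rw [Scheme.Opens.ι_image_top]; exact hi) (U := ⊤) trivial
    refine ⟨i, m, AModX.res _ (U i).ι_image_top.ge a, ?_⟩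
    rw [locus_res, inf_eq_left.2 ((locus_le a).trans (U i).ι_image_top.le)]
    exact ⟨hxa, ha⟩
  choose i m a hxa ha using key
  haveI : QuasiSeparatedSpace X := Scheme.quasiSeparatedSpace_of_isOpenCover (fun x => locus (a x))
    (eq_top_iff.2 fun x _ => Opens.mem_iSup.2 ⟨x, hxa x⟩) ha fun x y => by
      haveI : (U (i y) : Scheme.{u}).IsSeparated := isSeparated_of_isAmple (hamp (i y))
      let P : X.Opens := locus (a x) ⊓ U (i y)
      have hP : IsAffineOpen P := by
        change IsAffineOpen (locus (a x) ⊓ U (i y))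
        rw [hU (i y)]
        exact isAffineOpen_inf_locus (hN _) (ha x) (s (i y)) le_top
      have h1 := (hP.preimage_of_isOpenImmersion (U (i y)).ι (by rw [Scheme.Opens.opensRange_ι]; exact inf_le_right)).inf
        ((ha y).preimage_of_isOpenImmersion (U (i y)).ι (by rw [Scheme.Opens.opensRange_ι]; exact locus_le _))
      have h2 := h1.image_of_isOpenImmersion (U (i y)).ι
      have h3 : (U (i y)).ι ''ᵁ ((U (i y)).ι ⁻¹ᵁ P ⊓ (U (i y)).ι ⁻¹ᵁ locus (a y)) = locus (a x) ⊓ locus (a y) := by
        rw [← Scheme.Hom.preimage_inf, Scheme.Hom.image_preimage_eq_opensRange_inf, Scheme.Opens.opensRange_ι]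
        apply le_antisymm
        · exact inf_le_right.trans (inf_le_inf_right _ inf_le_left)
        · exact le_inf (inf_le_right.trans (locus_le _)) (le_inf (le_inf inf_le_left
            (inf_le_right.trans (locus_le _))) inf_le_right)
      rw [h3] at h2
      exact h2.isCompact
  refine hasAmpleFamily_of_loci fun x => ?_
  obtain ⟨P, hP, c, hc⟩ := exists_extend_locus (hN (i x)) (InvX.isInvertible_tensorPow (hL (i x)) (m x))
    (s (i x)) (hU (i x)) (a x)
  exact ⟨P, hP, c, hc ▸ hxa x, hc ▸ ha x⟩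

/-- Affine and quasi-affine morphisms. -/
theorem isQuasiAffine_of_or (f : X ⟶ Y) (hf : IsAffineHom f ∨ Mor2.IsQuasiAffine f) : Mor2.IsQuasiAffine f := by
  rcases hf with h | h
  · refine ⟨inferInstance, fun V hV => ?_⟩
    haveI : IsAffine (f ⁻¹ᵁ V : Scheme.{u}) := hV.preimage f
    infer_instance
  · exact h

end Groth.Agent.RelPC13.AmpleFam
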