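import Groth.Agent.AmpleX.Locus
import Groth.Agent.BlowUpLib.Glue
import Groth.Agent.SurfInt.Ideal
import Groth.Agent.OmegaLib.IdealMod
import Groth.Agent.RLPsi35.VAProj

/-!
# The exceptional ideal of a blowing up is ample over affine opens
-/

universe u

open CategoryTheory CategoryTheory.Limits AlgebraicGeometry TopologicalSpace Opposite

set_option backward.isDefEq.respectTransparency false
set_option backward.isDefEq.respectTransparency.types false

namespace Groth.Agent.RelPC13.AmpleFam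

open Groth.Agent Groth.Agent.AmpleX

variable {X : Scheme.{u}} {E : X.IdealSheafData}

/-- Where an element of an ideal sheaf frames it, it spans it. -/
theorem span_of_isFrame {U : X.Opens} {k : Γ(ClSub.idealMod E, U)} (hk : InvX.IsFrame k) (W : X.affineOpens)
    (hW : W.1 ≤ U) :
    E.ideal W = Ideal.span {OmegaSh.idealSect E W.1 (AModX.res (ClSub.idealMod E) hW k)} := by
  refine le_antisymm (fun x hx => ?_)
    ((Ideal.span_singleton_le_iff_mem _).2 (OmegaLib.idealSect_mem E W _))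
  obtain ⟨k', rfl⟩ := OmegaLib.exists_of_mem E W x hx
  obtain ⟨r, rfl⟩ := hk.exists_coord hW k'
  rw [OmegaLib.idealSect_smul]
  exact Ideal.mul_mem_left _ _ (Ideal.subset_span rfl)

/-- An element of an effective Cartier ideal frames it where it spans it. -/
theorem mem_locus_of_span (hE : BlowUp.IsEffCartierIdeal E) {U : X.Opens} (k : Γ(ClSub.idealMod E, U))
    (W : X.affineOpens) (hW : W.1 ≤ U)
    (hspan : E.ideal W = Ideal.span {OmegaSh.idealSect E W.1 (AModX.res (ClSub.idealMod E) hW k)})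
    {z : X} (hz : z ∈ W.1) : z ∈ locus k := by
  obtain ⟨U₁, hzU₁, h₁, hh₁⟩ := InvX.exists_frame (SurfInt.isInvertible_idealMod hE) z
  obtain ⟨W', hW', hzW', hle⟩ := exists_isAffineOpen_mem_and_subset (U := W.1 ⊓ U₁) (x := z) ⟨hz, hzU₁⟩
  have hW'W : W' ≤ W.1 := fun y hy => (hle hy).1
  have hh := hh₁.res (show W' ≤ U₁ from fun y hy => (hle hy).2)
  obtain ⟨r, hr⟩ := hh.exists_coord le_rfl (AModX.res (ClSub.idealMod E) (hW'W.trans hW) k)
  rw [AModX.res_self] at hr
  have hx := span_of_isFrame hh ⟨W', hW'⟩ le_rfl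
  rw [AModX.res_self] at hx
  have hnz := ModPairLib.generator_mem_nonZeroDivisors hE hx
  set x := OmegaSh.idealSect E W' (AModX.res (ClSub.idealMod E) (show W' ≤ U₁ from fun y hy => (hle hy).2) h₁)
  have h2 : E.ideal ⟨W', hW'⟩ = Ideal.span {r * x} := by
    rw [← E.map_ideal (U := ⟨W', hW'⟩) (V := W) hW'W, hspan, Ideal.map_span, Set.image_singleton]
    congr 2
    rw [← OmegaLib.idealSect_smul, ← hr, ← AModX.res_res hW hW'W]
    exact (OmegaLib.idealSect_map E hW'W _).symm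
  have hmem : x ∈ Ideal.span ({r * x} : Set Γ(X, W')) := h2 ▸ hx ▸ Ideal.subset_span rfl
  obtain ⟨s, hs⟩ := Ideal.mem_span_singleton'.1 hmem
  have hu : IsUnit r := by
    refine IsUnit.of_mul_eq_one_right s (sub_eq_zero.1 (mem_nonZeroDivisors_iff_right.1 hnz _ ?_))
    rw [sub_mul, mul_assoc, hs, one_mul, sub_self]
  have h3 : W' ≤ locus k := le_locus k (hW'W.trans hW) (by rw [hr]; exact hh.isUnit_smul hu)
  exact h3 hzW'

variable {Y : Scheme.{u}} {b : Y ⟶ X} {C : X.IdealSheafData}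

/-- The pullback of an element of the centre as a section of the exceptional ideal. -/
theorem exists_sect_pull (V : X.affineOpens) (c : C.ideal V) :
    ∃ k : Γ(ClSub.idealMod (C.comap b), b ⁻¹ᵁ V.1),
      OmegaSh.idealSect (C.comap b) _ k = b.app V.1 c.1 := by
  refine OmegaLib.exists_idealSect_eq _ _ _ (((C.comap b).subscheme.sheaf).eq_of_locally_eq'
    (fun y : ((C.comap b).subschemeι ⁻¹ᵁ (b ⁻¹ᵁ V.1)) =>
      (C.comap b).subschemeι ⁻¹ᵁ ((exists_isAffineOpen_mem_and_subset (U := b ⁻¹ᵁ V.1) y.2).choose))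
    _ (fun y => homOfLE ((C.comap b).subschemeι.preimage_mono
      (exists_isAffineOpen_mem_and_subset (U := b ⁻¹ᵁ V.1) y.2).choose_spec.2.2))
    (fun z hz => Opens.mem_iSup.2 ⟨⟨z, hz⟩,
      (exists_isAffineOpen_mem_and_subset (U := b ⁻¹ᵁ V.1) (x := (C.comap b).subschemeι z) hz).choose_spec.2.1⟩)
    _ _ fun y => ?_)
  obtain ⟨hA, -, hle⟩ := (exists_isAffineOpen_mem_and_subset (U := b ⁻¹ᵁ V.1) y.2).choose_spec
  set W := (exists_isAffineOpen_mem_and_subset (U := b ⁻¹ᵁ V.1) y.2).choose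
  have hm : b.appLE V.1 W hle c.1 ∈ (C.comap b).ideal ⟨W, hA⟩ := by
    rw [ModPairLib.ideal_comap _ b V ⟨W, hA⟩ hle]
    exact Ideal.mem_map_of_mem _ c.2
  rw [← (C.comap b).ker_subschemeι_app, RingHom.mem_ker] at hm
  rw [map_zero]
  refine Eq.trans ?_ hm
  exact (ConcreteCategory.congr_hom ((C.comap b).subschemeι.naturality (homOfLE hle).op) _).symm

/-- The exceptional ideal of a blowing up is ample over every affine open of the base. -/
theorem isAmple_exceptional (hb : BlowUp.IsBlowUp b C) [QuasiCompact b] (V : X.affineOpens) :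
    CohB1.IsAmple ((ClSub.idealMod (C.comap b)).restrict (b ⁻¹ᵁ V.1).ι) := by
  have hE := SurfInt.isInvertible_idealMod hb.1
  refine (isAmple_restrict_iff _ hE).2 ⟨isCompact_iff_compactSpace.mp (b.isCompact_preimage V.2.isCompact),
    fun z => ?_⟩
  let I := C.ideal V
  let A := Γ(X, V.1)
  obtain ⟨e, he⟩ := BlowUpLib.exists_iso (BlowUpLib.isBlowUp_of_isPullback (isPullback_morphismRestrict b V.1) hb)
    (BlowUpLib.isBlowUp_piece C ⟨V.1, V.2⟩)
  obtain ⟨c, hc⟩ := BlowUpLib.chart_covers I (e.hom z)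
  let jc : Spec (CommRingCat.of (BlowUp.affineAlgebra A I (c : A))) ⟶ Y :=
    BlowUpLib.chart I c ≫ e.inv ≫ (b ⁻¹ᵁ V.1).ι
  have hjb : jc ≫ b = Spec.map (CommRingCat.ofHom (algebraMap A (BlowUp.affineAlgebra A I (c : A)))) ≫
      V.2.fromSpec := by
    have h1 : e.inv ≫ (b ∣_ V.1) = BlowUpLib.toBase I ≫ V.2.isoSpec.inv := by
      rw [Iso.inv_comp_eq]; exact he.symm
    have h2 : e.inv ≫ (b ⁻¹ᵁ V.1).ι ≫ b = BlowUpLib.toBase I ≫ V.2.fromSpec := by
      rw [← morphismRestrict_ι, ← Category.assoc, h1, Category.assoc, IsAffineOpen.isoSpec_inv_ι]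
    simp only [jc, Category.assoc]
    rw [h2, BlowUpLib.chart_toBase_assoc]
  obtain ⟨k, hk⟩ := exists_sect_pull (b := b) V c
  have hkW : ∀ (W : Y.affineOpens) (hW : W.1 ≤ b ⁻¹ᵁ V.1),
      OmegaSh.idealSect (C.comap b) W.1 (AModX.res (ClSub.idealMod (C.comap b)) hW k) =
        b.appLE V.1 W.1 hW c.1 := by
    intro W hW
    refine (OmegaLib.idealSect_map (C.comap b) hW k).trans ?_
    rw [hk]
    rfl
  have hrange : jc.opensRange ≤ b ⁻¹ᵁ V.1 := by
    rintro _ ⟨p, rfl⟩
    exact ((BlowUpLib.chart I c ≫ e.inv) p).2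
  have hG : locus k = jc.opensRange := by
    refine le_antisymm (fun y hy => ?_) (fun y hy => ?_)
    · obtain ⟨W, hW, hyW, hle⟩ := exists_isAffineOpen_mem_and_subset (U := locus k) hy
      have hWV : W ≤ b ⁻¹ᵁ V.1 := (show W ≤ locus k from hle).trans (locus_le k)
      have hspan := span_of_isFrame (isFrame_res_locus k) ⟨W, hW⟩ hle
      rw [AModX.res_res, hkW ⟨W, hW⟩] at hspan
      let g : Spec Γ(Y, W) ⟶ Spec (CommRingCat.of A) := Spec.map (b.appLE V.1 W hWV)
      let h : Spec Γ(Y, W) ⟶ BlowUpLib.localBlowUp I :=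
        hW.isoSpec.inv ≫ Y.homOfLE hWV ≫ e.hom
      have hgb : g ≫ V.2.fromSpec = hW.fromSpec ≫ b := IsAffineOpen.SpecMap_appLE_fromSpec b V.2 hW hWV
      have hh : h ≫ BlowUpLib.toBase I = g := by
        rw [← cancel_mono V.2.fromSpec, hgb, Category.assoc]
        have h3 : e.hom ≫ BlowUpLib.toBase I ≫ V.2.fromSpec = (b ⁻¹ᵁ V.1).ι ≫ b := by
          rw [← morphismRestrict_ι, ← he, Category.assoc, BlowUpLib.pieceMap, Category.assoc,
            IsAffineOpen.isoSpec_inv_ι]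
        simp only [h, Category.assoc]
        rw [h3, Scheme.homOfLE_ι_assoc, IsAffineOpen.isoSpec_inv_ι_assoc]
      have hcg : (BlowUpLib.centre I).comap g = (C.comap b).comap hW.fromSpec := by
        rw [← BlowUpLib.comap_fromSpec C V, ← Scheme.IdealSheafData.comap_comp,
          ← Scheme.IdealSheafData.comap_comp, hgb]
      let T : (Spec Γ(Y, W)).affineOpens := ⟨⊤, isAffineOpen_top _⟩
      have hT : ((BlowUpLib.centre I).comap g).ideal T = Ideal.span {BlowUpLib.strHom g T.1 c} := by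
        rw [hcg, ModPairLib.comap_ideal_of_opensRange hW.fromSpec (C.comap b) ⟨W, hW⟩ hW.opensRange_fromSpec,
          hspan, Ideal.map_span, Set.image_singleton]
        congr 2
        have h4 : b.appLE V.1 W hWV ≫ hW.fromSpec.appLE W ⊤ (fun z _ => hW.opensRange_fromSpec.le ⟨z, rfl⟩) =
            (Scheme.ΓSpecIso (CommRingCat.of A)).inv ≫ g.appLE ⊤ ⊤ le_top := by
          simp only [g, Scheme.Hom.appLE, hW.fromSpec_app_self, Category.assoc, ← Functor.map_comp]
          rw [← Scheme.ΓSpecIso_inv_naturality_assoc]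
          simp
          rfl
        exact ConcreteCategory.congr_hom h4 c.1
      obtain ⟨p, rfl⟩ : y ∈ Set.range hW.fromSpec := by rw [hW.range_fromSpec]; exact hyW
      obtain ⟨q, hq⟩ := BlowUpLib.range_subset_chart I
        (hcg ▸ BlowUpLib.isEffCartier_comap_flat _ hb.1) h hh c T hT p trivial
      refine ⟨q, ?_⟩
      have hq' : (BlowUpLib.chart I c ≫ e.inv ≫ (b ⁻¹ᵁ V.1).ι) q = (h ≫ e.inv ≫ (b ⁻¹ᵁ V.1).ι) p := by
        simp only [Scheme.Hom.comp_apply]
        rw [hq]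
      refine hq'.trans (congrArg (fun m : Spec Γ(Y, W) ⟶ Y => m p) ?_)
      simp only [h, Category.assoc, Iso.hom_inv_id_assoc, Scheme.homOfLE_ι, IsAffineOpen.isoSpec_inv_ι]
    · obtain ⟨W₀, e₀, hyW₀, c', hc', hW₀⟩ := ModPairLib.exists_chart_blowUp hb.1 y V (hrange hy)
      obtain ⟨r, hr, hyr⟩ := W₀.2.exists_basicOpen_le (V := jc.opensRange) ⟨y, hy⟩ hyW₀
      let W : Y.affineOpens := ⟨Y.basicOpen r, W₀.2.basicOpen r⟩
      have hWW₀ : W.1 ≤ W₀.1 := Y.basicOpen_le r
      have hWV : W.1 ≤ b ⁻¹ᵁ V.1 := hWW₀.trans e₀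
      obtain ⟨ψ, hψ⟩ := Spec.map_surjective (IsOpenImmersion.lift jc W.2.fromSpec
        (by rw [W.2.range_fromSpec]; exact hr))
      have hψ2 : Spec.map ψ ≫ jc = W.2.fromSpec := by rw [hψ, IsOpenImmersion.lift_fac]
      have hψ3 : CommRingCat.ofHom (algebraMap A (BlowUp.affineAlgebra A I (c : A))) ≫ ψ = b.appLE V.1 W.1 hWV := by
        apply Spec.map_injective
        rw [← cancel_mono V.2.fromSpec, IsAffineOpen.SpecMap_appLE_fromSpec b V.2 W.2 hWV, Spec.map_comp,
          Category.assoc, ← hjb, ← Category.assoc, hψ2]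
      refine mem_locus_of_span hb.1 k W hWV ?_ hyr
      rw [hkW]
      have hW : (C.comap b).ideal W = Ideal.span {b.appLE V.1 W.1 hWV c'} := by
        rw [← (C.comap b).map_ideal (U := W) (V := W₀) hWW₀, hW₀, Ideal.map_span, Set.image_singleton,
          ← Scheme.Hom.appLE_map b e₀ (homOfLE hWW₀).op]
        rfl
      refine le_antisymm ?_ ((Ideal.span_singleton_le_iff_mem _).2 ?_)
      · rw [hW, Ideal.span_singleton_le_iff_mem, ← hψ3]
        change ψ.hom (algebraMap A _ c') ∈ Ideal.span {ψ.hom (algebraMap A _ (c : A))}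
        rw [show algebraMap A (BlowUp.affineAlgebra A I (c : A)) c' = _ from
          (BlowUpLib.frac_mul I ⟨c', hc'⟩ c).symm, map_mul]
        exact Ideal.mul_mem_left _ _ (Ideal.subset_span rfl)
      · rw [ModPairLib.ideal_comap _ b V W hWV]
        exact Ideal.mem_map_of_mem _ c.2
  have haff : IsAffineOpen (locus k) := by rw [hG]; exact isAffineOpen_opensRange jc
  have hzk : (b ⁻¹ᵁ V.1).ι z ∈ locus k := by
    rw [hG]
    obtain ⟨p, hp⟩ := hc
    refine ⟨p, ?_⟩
    simp only [jc, Scheme.Hom.comp_apply]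
    rw [hp, ← Scheme.Hom.comp_apply e.hom, Iso.hom_inv_id]
    rfl
  refine ⟨1, one_pos, AModX.res _ (b ⁻¹ᵁ V.1).ι_image_top.le
    ((RLPsi35.tensorPowOneIso (ClSub.idealMod (C.comap b))).symm.hom.app _ k), ?_⟩
  rw [locus_res, locus_iso, inf_eq_left.2 ((locus_le k).trans (b ⁻¹ᵁ V.1).ι_image_top.ge)]
  exact ⟨hzk, haff⟩

end Groth.Agent.RelPC13.AmpleFam
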