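import Groth.Agent.RelPC13.AmpleFam.Basic
import Groth.Agent.AmpleX.Coprod
import Groth.Agent.HTop83.PhChow
import Groth.Agent.RadPtLib.Basic

/-!
# Disjoint unions: ample families, properness
-/

universe u

open CategoryTheory CategoryTheory.Limits AlgebraicGeometry TopologicalSpace Opposite

set_option backward.isDefEq.respectTransparency false
set_option backward.isDefEq.respectTransparency.types false

namespace Groth.Agent.RelPC13.AmpleFam

open Groth.Agent Groth.Agent.AmpleX Groth.Agent.H23.PicMul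

variable {A B P : Scheme.{u}}

theorem subsingleton_sections_bot (M : P.Modules) {V : P.Opens} (hV : V = ⊥) (s t : Γ(M, V)) : s = t := by
  refine AModX.eq_of_locally _ _ fun p hp => absurd hp ?_
  rw [hV]; exact id

theorem isZero_restrict_pushforward (i : A ⟶ P) (i' : B ⟶ P) [IsOpenImmersion i] [IsOpenImmersion i']
    (hdisj : i.opensRange ⊓ i'.opensRange = ⊥) (M : B.Modules) :
    IsZero (((Scheme.Modules.pushforward i').obj M).restrict i) := by
  rw [IsZero.iff_id_eq_zero]
  ext U s
  refine subsingleton_sections_bot M (V := i' ⁻¹ᵁ (i ''ᵁ U)) (eq_bot_iff.2 fun z hz => ?_) _ _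
  have h1 : i' z ∈ i.opensRange := by
    obtain ⟨w, -, hw⟩ := hz
    exact ⟨w, hw⟩
  exact hdisj.le ⟨h1, ⟨z, rfl⟩⟩

/-- An invertible module on a clopen piece extends to the disjoint union. -/
theorem exists_invertible_extend (i : A ⟶ P) (i' : B ⟶ P) [IsOpenImmersion i] [IsOpenImmersion i']
    (hdisj : i.opensRange ⊓ i'.opensRange = ⊥) (hcov : i.opensRange ⊔ i'.opensRange = ⊤)
    {N : A.Modules} (hN : PicF.IsInvertible N) :
    ∃ K : P.Modules, PicF.IsInvertible K ∧ Nonempty (K.restrict i ≅ N) := by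
  haveI : ∀ {C : Scheme.{u}} (k : C ⟶ P) [IsOpenImmersion k],
      PreservesBinaryBiproducts (Scheme.Modules.restrictFunctor k) := fun k _ => by
    haveI : (Scheme.Modules.restrictFunctor k).Additive :=
      Functor.additive_of_iso (Scheme.Modules.restrictFunctorIsoPullback k).symm
    exact preservesBinaryBiproducts_of_preservesBiproducts _
  let K₁ := (Scheme.Modules.pushforward i).obj N
  let K₂ := (Scheme.Modules.pushforward i').obj (Coh.structureModule B)
  let e₁ : (K₁ ⊞ K₂).restrict i ≅ N :=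
    (Scheme.Modules.restrictFunctor i).mapBiprod K₁ K₂ ≪≫
      (isoBiprodZero (isZero_restrict_pushforward i i' hdisj _)).symm ≪≫
      (Scheme.Modules.restrictFunctorAdjCounitIso i).app N
  let e₂ : (K₁ ⊞ K₂).restrict i' ≅ Coh.structureModule B :=
    (Scheme.Modules.restrictFunctor i').mapBiprod K₁ K₂ ≪≫
      (isoZeroBiprod (isZero_restrict_pushforward i' i ((inf_comm _ _).trans hdisj) _)).symm ≪≫
      (Scheme.Modules.restrictFunctorAdjCounitIso i').app (Coh.structureModule B)
  refine ⟨K₁ ⊞ K₂, isInvertible_of_restrict_cover fun p => ?_, ⟨e₁⟩⟩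
  rcases hcov.ge (show p ∈ (⊤ : P.Opens) from trivial) with h | h
  · exact ⟨A, i, inferInstance, h, isInvertible_of_iso e₁.symm hN⟩
  · exact ⟨B, i', inferInstance, h, isInvertible_of_iso e₂.symm InvX.isInvertible_structureModule⟩

theorem locus_extend_point (i : A ⟶ P) (i' : B ⟶ P) [IsOpenImmersion i] [IsOpenImmersion i']
    (hdisj : i.opensRange ⊓ i'.opensRange = ⊥) (hcov : i.opensRange ⊔ i'.opensRange = ⊤) (hA : HasLoci A)
    (x : A) : ∃ (N : P.Modules) (_ : PicF.IsInvertible N) (a : Γ(N, ⊤)), i x ∈ locus a ∧ IsAffineOpen (locus a) := by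
  obtain ⟨N, hN, a, hxa, ha⟩ := hA x
  obtain ⟨K, hK, ⟨e⟩⟩ := exists_invertible_extend i i' hdisj hcov hN
  let c : Γ(K, i ''ᵁ ⊤) := e.inv.app ⊤ a
  have hc : locus c = i ''ᵁ locus a :=
    (image_locus (M := K) i (V := ⊤) (e.inv.app ⊤ a)).symm.trans (congrArg (fun O => i ''ᵁ O) (locus_iso e.symm a))
  obtain ⟨b, hb⟩ := exists_section_extend_zero hK (U := i ''ᵁ ⊤) (U' := i'.opensRange) (W' := (⊤ : P.Opens))
    le_top le_top (by rw [Scheme.Hom.image_top_eq_opensRange, hcov])
    (by rw [Scheme.Hom.image_top_eq_opensRange, hdisj]) c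
  refine ⟨K, hK, b, ?_⟩
  rw [hb, hc]
  exact ⟨⟨x, hxa, rfl⟩, ha.image_of_isOpenImmersion i⟩

/-- A disjoint union of two schemes with ample families has an ample family. -/
theorem hasAmpleFamily_coprod (hA : MoreMor.HasAmpleFamily A) (hB : MoreMor.HasAmpleFamily B) :
    MoreMor.HasAmpleFamily (A ⨿ B) := by
  haveI := hA.1
  haveI := hB.1
  haveI : CompactSpace (A ⨿ B : Scheme.{u}) := (coprodMk A B).compactSpace
  have hc := isCompl_range_inl_inr A B
  refine hasAmpleFamily_of_loci fun p => ?_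
  obtain ⟨x | x, rfl⟩ := (coprodMk A B).surjective p
  · rw [coprodMk_inl]
    exact locus_extend_point coprod.inl coprod.inr (Opens.ext hc.disjoint.inter_eq)
      (Opens.ext hc.codisjoint.eq_top) (loci_of_hasAmpleFamily hA) x
  · rw [coprodMk_inr]
    exact locus_extend_point coprod.inr coprod.inl (Opens.ext hc.symm.disjoint.inter_eq)
      (Opens.ext hc.symm.codisjoint.eq_top) (loci_of_hasAmpleFamily hB) x

theorem isProper_coprodDesc {X : Scheme.{u}} (f : A ⟶ X) (g : B ⟶ X) [IsProper f] [IsProper g] :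
    IsProper (coprod.desc f g) := by
  let Y : ULift.{u} WalkingPair → Scheme.{u} := fun i => i.1.casesOn A B
  let φ : ∀ i, Y i ⟶ X := fun i => match i with
    | ⟨.left⟩ => f
    | ⟨.right⟩ => g
  have hφ : ∀ i : ULift.{u} WalkingPair, IsProper (φ i) := by
    rintro ⟨_ | _⟩
    · exact ‹IsProper f›
    · exact ‹IsProper g›
  haveI : IsProper (Sigma.desc φ) := @HTop83.isProper_sigmaDesc X (ULift.{u} WalkingPair) _ Y φ hφ
  have e : (coprodIsoSigma A B).inv ≫ coprod.desc f g = Sigma.desc φ := by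
    refine Sigma.hom_ext _ _ fun i => ?_
    match i with
    | ⟨.left⟩ => rw [Sigma.ι_desc, reassoc_of% ι_left_coprodIsoSigma_inv, coprod.inl_desc]
    | ⟨.right⟩ => rw [Sigma.ι_desc, reassoc_of% ι_right_coprodIsoSigma_inv, coprod.inr_desc]
  rw [← MorphismProperty.cancel_left_of_respectsIso @IsProper (coprodIsoSigma A B).inv, e]
  infer_instance

end Groth.Agent.RelPC13.AmpleFam
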