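import Groth.Agent.RelPC13.AmpleFam.Main
import Groth.Agent.RelPC13.AmpleFam.Disjoint
import Groth.Agent.LimMor.Approx
import Groth.Agent.BlowUpLib.Glue

/-!
# Proper completely decomposed covers with ample families
-/

universe u

open CategoryTheory CategoryTheory.Limits AlgebraicGeometry TopologicalSpace Opposite

set_option backward.isDefEq.respectTransparency false
set_option backward.isDefEq.respectTransparency.types false

namespace Groth.Agent.RelPC13.AmpleFam

open Groth.Agent

variable {X Y Z : Scheme.{u}}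

/-- A point with a lift having trivial residue field extension. -/
def HasSplitLift (f : Y ⟶ X) (x : X) : Prop := ∃ y : Y, f y = x ∧ Function.Bijective (f.residueFieldMap y)

theorem bijective_residueFieldMap_comp_iff (f : Z ⟶ Y) (g : Y ⟶ X) (z : Z)
    (hf : Function.Bijective (f.residueFieldMap z)) :
    Function.Bijective ((f ≫ g).residueFieldMap z) ↔ Function.Bijective (g.residueFieldMap (f z)) := by
  rw [Scheme.residueFieldMap_comp]
  exact Function.Bijective.of_comp_iff' hf (g.residueFieldMap (f z))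

theorem HasSplitLift.comp_imm {f : Y ⟶ X} {g : X ⟶ Z} [IsPreimmersion g] {x : X} (h : HasSplitLift f x) :
    HasSplitLift (f ≫ g) (g x) := by
  obtain ⟨y, rfl, hy⟩ := h
  exact ⟨y, rfl, (bijective_residueFieldMap_comp_iff f g y hy).2 (RadPtLib.bijective_residueFieldMap g _)⟩

theorem HasSplitLift.of_factor {f : Z ⟶ X} {g : Y ⟶ X} {j : Z ⟶ Y} [IsPreimmersion j] (e : j ≫ g = f) {x : X}
    (h : HasSplitLift f x) : HasSplitLift g x := by
  subst e
  obtain ⟨z, rfl, hz⟩ := h
  exact ⟨j z, rfl, (bijective_residueFieldMap_comp_iff j g z (RadPtLib.bijective_residueFieldMap j _)).1 hz⟩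

theorem hasSplitLift_of_isIso_restrict (b : Y ⟶ X) (U : X.Opens) [IsIso (b ∣_ U)] {x : X} (hx : x ∈ U) :
    HasSplitLift b x := by
  refine HasSplitLift.of_factor (j := inv (b ∣_ U) ≫ (b ⁻¹ᵁ U).ι) (f := U.ι) ?_ ⟨⟨x, hx⟩, rfl, ?_⟩
  · rw [Category.assoc, ← morphismRestrict_ι, IsIso.inv_hom_id_assoc]
  · exact RadPtLib.bijective_residueFieldMap _ _

/-- Over a Noetherian base: proper completely decomposed covers with ample families. -/
theorem exists_cover_of_isNoetherian [IsNoetherian X] (S : Closeds X) :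
    ∃ (Y : Scheme.{u}) (f : Y ⟶ X), IsProper f ∧ MoreMor.HasAmpleFamily Y ∧ ∀ x ∈ S, HasSplitLift f x := by
  induction S using WellFoundedLT.induction with
  | ind S ih => ?_
  rcases (S : Set X).eq_empty_or_nonempty with h0 | ⟨x₀, hx₀⟩
  · have hr : Set.range (⊥ : X.Opens).ι = ∅ := by rw [Scheme.Opens.range_ι]; rfl
    haveI : IsClosedImmersion (⊥ : X.Opens).ι :=
      IsClosedImmersion.of_isPreimmersion _ (hr ▸ isClosed_empty)
    haveI : IsEmpty ((⊥ : X.Opens).toScheme : Scheme.{u}) := ⟨fun z => z.2⟩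
    exact ⟨_, (⊥ : X.Opens).ι, inferInstance, ⟨inferInstance, fun z => isEmptyElim z⟩,
      fun x hx => absurd (show x ∈ (S : Set X) from hx) (h0 ▸ Set.notMem_empty x)⟩
  · let I := Scheme.IdealSheafData.vanishingIdeal S
    let i := I.subschemeι
    have hr : Set.range i = (S : Set X) := by
      rw [Scheme.IdealSheafData.range_subschemeι, Scheme.IdealSheafData.coe_support_vanishingIdeal]
    haveI : IsLocallyNoetherian I.subscheme := LocallyOfFiniteType.isLocallyNoetherian i
    haveI : CompactSpace I.subscheme := QuasiCompact.compactSpace_of_compactSpace i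
    haveI : IsNoetherian I.subscheme := { ‹IsLocallyNoetherian I.subscheme›, ‹CompactSpace I.subscheme› with }
    obtain ⟨U, C, Z', b, -, hUd, hC, hb, hZ'⟩ :=
      exists_blowUp_hasAmpleFamily (X := I.subscheme) TopologicalSpace.NoetherianSpace.finite_irreducibleComponents
    haveI : IsProper b := BlowUpLib.isProper_of_isBlowUp C hb hC.1
    haveI : IsIso (b ∣_ U) := BlowUpLib.isIso_restrict hb U fun z hz hz' => Set.disjoint_left.1 hC.2 hz' hz
    let S' : Closeds X := ⟨i '' (U : Set I.subscheme)ᶜ, i.isClosedEmbedding.isClosedMap _ U.isOpen.isClosed_compl⟩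
    have hle : S' ≤ S := fun x hx => by
      obtain ⟨z, -, rfl⟩ := hx
      show i z ∈ (S : Set X)
      rw [← hr]
      exact Set.mem_range_self z
    have hlt : S' < S := by
      refine lt_of_le_of_ne hle fun e => ?_
      obtain ⟨z₀, hz₀⟩ : x₀ ∈ Set.range i := hr.symm ▸ hx₀
      obtain ⟨u, hu⟩ := hUd.nonempty_iff.2 ⟨z₀⟩
      have : i u ∈ S' := e ▸ (show i u ∈ (S : Set X) from hr ▸ Set.mem_range_self u)
      obtain ⟨w, hw, hwu⟩ := this
      exact hw (i.isClosedEmbedding.injective hwu ▸ hu)
    obtain ⟨Y₂, f₂, hf₂, hY₂, hl₂⟩ := ih S' hlt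
    refine ⟨Z' ⨿ Y₂, coprod.desc (b ≫ i) f₂, isProper_coprodDesc _ _, hasAmpleFamily_coprod hZ' hY₂,
      fun x hx => ?_⟩
    obtain ⟨z, rfl⟩ : x ∈ Set.range i := hr.symm ▸ hx
    by_cases hzU : z ∈ U
    · exact ((hasSplitLift_of_isIso_restrict b U hzU).comp_imm (g := i)).of_factor (coprod.inl_desc _ _)
    · exact (hl₂ _ ⟨z, hzU, rfl⟩).of_factor (coprod.inr_desc _ _)

/-- Split lifts are stable under base change. -/
theorem HasSplitLift.pullback_fst {f : Y ⟶ Z} (g : X ⟶ Z) {x : X} (h : HasSplitLift f (g x)) :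
    HasSplitLift (pullback.fst g f) x := by
  obtain ⟨y, hy, hb⟩ := h
  let φ : Y.residueField y ⟶ X.residueField x :=
    CommRingCat.ofHom (RingEquiv.ofBijective (f.residueFieldMap y).hom hb).symm.toRingHom ≫
      (Z.residueFieldCongr hy).hom ≫ g.residueFieldMap x
  have hφ : f.residueFieldMap y ≫ φ = (Z.residueFieldCongr hy).hom ≫ g.residueFieldMap x := by
    ext a
    exact congrArg (fun t => ((Z.residueFieldCongr hy).hom ≫ g.residueFieldMap x) t)
      ((RingEquiv.ofBijective (f.residueFieldMap y).hom hb).symm_apply_apply a)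
  let s : Spec (X.residueField x) ⟶ pullback g f :=
    pullback.lift (X.fromSpecResidueField x) (Spec.map φ ≫ Y.fromSpecResidueField y) (by
      rw [Category.assoc, ← Scheme.Hom.SpecMap_residueFieldMap_fromSpecResidueField f y, ← Spec.map_comp_assoc, hφ,
        Spec.map_comp_assoc, Scheme.residueFieldCongr_fromSpecResidueField,
        Scheme.Hom.SpecMap_residueFieldMap_fromSpecResidueField])
  let p : Spec (X.residueField x) := IsLocalRing.closedPoint (X.residueField x)
  have hs : pullback.fst g f (s p) = x := by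
    rw [← Scheme.Hom.comp_apply, pullback.lift_fst]
    exact Scheme.fromSpecResidueField_apply _ _
  refine ⟨s p, hs, ?_⟩
  have h1 : Function.Bijective ((s ≫ pullback.fst g f).residueFieldMap p) := by
    rw [show s ≫ pullback.fst g f = X.fromSpecResidueField x from pullback.lift_fst _ _ _]
    exact RadPtLib.bijective_residueFieldMap _ _
  rw [Scheme.residueFieldMap_comp] at h1
  replace h1 : Function.Bijective
      ((s.residueFieldMap p).hom ∘ ((pullback.fst g f).residueFieldMap (s p)).hom) := h1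
  have hinj := (s.residueFieldMap p).hom.injective
  exact (Function.Bijective.of_comp_iff' ⟨hinj, h1.2.of_comp⟩ _).1 h1

theorem exists_proper_cd_cover_with_ample_family (X : Scheme.{u}) [CompactSpace X] [QuasiSeparatedSpace X] :
    ∃ (Y : Scheme.{u}) (f : Y ⟶ X), IsProper f ∧ LocallyOfFinitePresentation f ∧
      (∀ x : X, ∃ y : Y, f y = x ∧ Function.Bijective (f.residueFieldMap y)) ∧ MoreMor.HasAmpleFamily Y := by
  obtain ⟨T, g, hT, hg⟩ := LimMor.exists_affine_toFTZ X
  haveI := hT.isNoetherian
  haveI := hg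
  obtain ⟨Y₀, f₀, hf₀, hY₀, hl⟩ := exists_cover_of_isNoetherian (X := T) ⊤
  haveI := hf₀
  haveI : LocallyOfFinitePresentation f₀ := LocallyOfFinitePresentation.iff_locallyOfFiniteType.2 inferInstance
  refine ⟨pullback g f₀, pullback.fst g f₀, inferInstance,
    MorphismProperty.pullback_fst _ _ inferInstance, fun x => (hl (g x) trivial).pullback_fst g, ?_⟩
  haveI : IsAffineHom (pullback.snd g f₀) := MorphismProperty.pullback_snd _ _ hg
  exact loci_of_isRelAmple (pullback.snd g f₀) hY₀
    ((AmpleX.isQuasiAffine_iff_isRelAmple _).1 (isQuasiAffine_of_or _ (Or.inl inferInstance)))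

end Groth.Agent.RelPC13.AmpleFam
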