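import Groth.Agent.RelPC13.AmpleFam.Basic
import Groth.Agent.RelPC13.AmpleFam.BlowUp
import Groth.Agent.BlowUpX.Basic
import Groth.Agent.FComplLib.IdealComap
import Groth.Agent.LimMor.SmallProps
import Groth.Agent.SurfInt.DivSection
import Mathlib.AlgebraicGeometry.Limits

/-!
# Blowing up to obtain an ample family
-/

universe u

open CategoryTheory CategoryTheory.Limits AlgebraicGeometry TopologicalSpace Opposite

set_option backward.isDefEq.respectTransparency false
set_option backward.isDefEq.respectTransparency.types false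

namespace Groth.Agent.RelPC13.AmpleFam

open Groth.Agent

variable {X : Scheme.{u}}

/-- With finitely many irreducible components, every point has a dense affine neighbourhood. -/
theorem exists_dense_affine (hirr : (irreducibleComponents X).Finite) (x : X) :
    ∃ V : X.Opens, IsAffineOpen V ∧ x ∈ V ∧ Dense (V : Set X) := by
  obtain ⟨U, hU, hxU, -⟩ := exists_isAffineOpen_mem_and_subset (U := (⊤ : X.Opens)) (x := x) trivial
  let T := {C : irreducibleComponents X // Disjoint (C : Set X) (U : Set X)}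
  haveI : Finite (irreducibleComponents X) := hirr.to_subtype
  let O : T → X.Opens := fun C => ⟨(⋃₀ (irreducibleComponents X \ {(C.1 : Set X)}))ᶜ,
    ((hirr.sdiff).isClosed_biUnion fun D hD => isClosed_of_mem_irreducibleComponents D hD.1).isOpen_compl
      |> fun h => by rwa [← Set.sUnion_eq_biUnion] at h⟩
  have hne : ∀ C : T, ∃ y, y ∈ O C ∧ y ∈ (C.1 : Set X) := fun C => by
    obtain ⟨y, hy, hy'⟩ := Set.not_subset.1 fun h =>
      (mem_of_subset_sUnion_irreducibleComponents (C.1 : Set X) C.1.2 (irreducibleComponents X \ {(C.1 : Set X)})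
        (hirr.sdiff) Set.sdiff_subset h).2 rfl
    exact ⟨y, hy', hy⟩
  choose y hyO hyC using hne
  choose W hW hyW hWO using fun C : T => exists_isAffineOpen_mem_and_subset (U := O C) (hyO C)
  have hOmem : ∀ (C : T) z, z ∈ O C → z ∈ (C.1 : Set X) := fun C z hz => by
    obtain ⟨D, hD, hzD⟩ : ∃ D ∈ irreducibleComponents X, z ∈ D := by
      have : z ∈ ⋃₀ irreducibleComponents X := by rw [sUnion_irreducibleComponents]; trivial
      exact this
    by_cases h : D = (C.1 : Set X)
    · exact h ▸ hzD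
    · exact (hz ⟨D, ⟨hD, h⟩, hzD⟩).elim
  have hOO : ∀ (C C' : T), C ≠ C' → ∀ z, z ∈ O C → z ∉ O C' := fun C C' hne z hz hz' =>
    hz' ⟨_, ⟨C.1.2, fun h => hne (Subtype.ext (Subtype.ext h))⟩, hOmem C z hz⟩
  have hWa : IsAffineOpen (⨆ C, W C) := IsAffineOpen.iSup_of_disjoint hW fun C C' hne => by
    rw [Function.onFun, disjoint_iff]
    exact eq_bot_iff.2 fun z hz => hOO C C' hne z (hWO C hz.1) (hWO C' hz.2)
  have hd : Disjoint U (⨆ C, W C) := by
    rw [disjoint_iff]
    refine eq_bot_iff.2 fun z hz => ?_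
    obtain ⟨C, hC⟩ := Opens.mem_iSup.1 hz.2
    exact Set.disjoint_left.1 C.2 (hOmem C z (hWO C hC)) hz.1
  refine ⟨U ⊔ ⨆ C, W C, hU.sup_of_disjoint hWa hd, Or.inl hxU, ?_⟩
  rw [dense_iff_closure_eq, Set.eq_univ_iff_forall]
  intro z
  obtain ⟨D, hD, hzD⟩ : z ∈ ⋃₀ irreducibleComponents X := by rw [sUnion_irreducibleComponents]; trivial
  have hmeet : (D ∩ ((U ⊔ ⨆ C, W C : X.Opens) : Set X)).Nonempty := by
    by_cases h : Disjoint D (U : Set X)
    · exact ⟨y ⟨⟨D, hD⟩, h⟩, hyC ⟨⟨D, hD⟩, h⟩, Or.inr (Opens.mem_iSup.2 ⟨_, hyW ⟨⟨D, hD⟩, h⟩⟩)⟩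
    · obtain ⟨w, hw, hw'⟩ := Set.not_disjoint_iff.1 h
      exact ⟨w, hw, Or.inl hw'⟩
  exact closure_mono Set.inter_subset_right
    (subset_closure_inter_of_isPreirreducible_of_isOpen hD.1.2 (U ⊔ ⨆ C, W C).isOpen hmeet hzD)

/-- A quasi-compact quasi-separated scheme with finitely many components has an admissible blowing up with
an ample family. -/
theorem exists_blowUp_hasAmpleFamily [CompactSpace X] [QuasiSeparatedSpace X]
    (hirr : (irreducibleComponents X).Finite) :
    ∃ (U : X.Opens) (𝓘 : X.IdealSheafData) (X' : Scheme.{u}) (b : X' ⟶ X),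
      IsCompact (U : Set X) ∧ Dense (U : Set X) ∧ BlowUp.IsAdmissibleFor U 𝓘 ∧ BlowUp.IsBlowUp b 𝓘 ∧
      MoreMor.HasAmpleFamily X' := by
  classical
  choose V hV hxV hVd using exists_dense_affine hirr
  obtain ⟨t, ht⟩ := isCompact_univ.elim_finite_subcover (fun x : X => (V x : Set X)) (fun x => (V x).isOpen)
    (fun x _ => Set.mem_iUnion.2 ⟨x, hxV x⟩)
  choose I hIfg hIs using fun x => (LimMor.isCompact_open_iff_fg X (V x)).1 (hV x).isCompact
  let C : X.IdealSheafData := ∏ x ∈ t, I x
  have key : ∀ s : Finset X, (∀ U : X.affineOpens, ((∏ x ∈ s, I x).ideal U).FG) ∧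
      ((∏ x ∈ s, I x).support : Set X) = ⋃ x ∈ s, ((I x).support : Set X) := fun s => by
    induction s using Finset.induction with
    | empty =>
      simp only [Finset.prod_empty]
      refine ⟨fun U => ?_, ?_⟩
      · rw [show (1 : X.IdealSheafData) = ⊤ from rfl, Scheme.IdealSheafData.ideal_top]
        exact ⟨{1}, by rw [Finset.coe_singleton]; exact Ideal.span_singleton_one⟩
      · rw [show (1 : X.IdealSheafData) = ⊤ from rfl]; simp
    | insert a s ha ih =>
      rw [Finset.prod_insert ha]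
      refine ⟨fun U => ?_, ?_⟩
      · rw [Scheme.IdealSheafData.ideal_mul, Pi.mul_apply]; exact (hIfg a U).mul (ih.1 U)
      · rw [Scheme.IdealSheafData.support_mul, TopologicalSpace.Closeds.coe_sup, ih.2, Finset.set_biUnion_insert]
  obtain ⟨hCfg, hCs⟩ := key t
  let U : X.Opens := C.support.compl
  have hUs : (C.support : Set X) = (U : Set X)ᶜ := (compl_compl _).symm
  obtain ⟨X', b, hb⟩ := BlowUpLib.exists_blowUp C
  haveI : IsProper b := BlowUpLib.isProper_of_isBlowUp C hb hCfg
  refine ⟨U, C, X', b, (LimMor.isCompact_open_iff_fg X U).2 ⟨C, hCfg, hUs⟩, ?_,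
    ⟨hCfg, Set.disjoint_left.2 fun z hz hz' => hz' hz⟩, hb, ?_⟩
  · have : (U : Set X) = ⋂ x ∈ t, (V x : Set X) := by
      change ((C.support : Set X))ᶜ = _
      rw [hCs, Set.compl_iUnion₂]
      simp only [hIs, compl_compl]
    rw [this]
    suffices h : ∀ s : Finset X, IsOpen (⋂ x ∈ s, (V x : Set X)) ∧ Dense (⋂ x ∈ s, (V x : Set X)) from (h t).2
    intro s
    induction s using Finset.induction with
    | empty => simp
    | insert a s ha ih =>
      rw [Finset.set_biInter_insert]
      exact ⟨(V a).isOpen.inter ih.1, (hVd a).inter_of_isOpen_left ih.2 (V a).isOpen⟩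
  · have hE : ∀ x : t, BlowUp.IsEffCartierIdeal ((I x).comap b) := fun x => by
      have h : C = I x * ∏ z ∈ t.erase x, I z := (Finset.mul_prod_erase t I x.2).symm
      have := hb.1
      rw [h, FComplLib.comap_mul] at this
      exact BlowUpX.isEffCartier_left_of_mul this
    choose N hN hNinv using fun x : t => H23.PicInv.exists_inverse (SurfInt.isInvertible_idealMod (hE x))
    have hinv : ∀ x : t, ClSub.IsInverseOf (N x) (ClSub.idealMod ((I x).comap b)) := fun x =>
      ⟨(H23.PicMul.comm (N x) (ClSub.idealMod ((I x).comap b))).some ≪≫ (hNinv x).some⟩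
    choose s hs using fun x : t => SurfInt.exists_divisor_section _ (hE x) (hN x) (hinv x)
    refine hasAmpleFamily_of_pieces N hN s (fun x => b ⁻¹ᵁ V x)
      (fun x => Opens.ext (Set.ext fun z => ?_)) (fun z => ?_) (fun _ => ClSub.idealMod (C.comap b))
      (fun _ => SurfInt.isInvertible_idealMod hb.1) (fun x => isAmple_exceptional hb ⟨V x, hV x⟩)
    · refine Iff.trans ?_ (hs x z).symm
      have e : z ∈ ((I x).comap b).support ↔ b z ∈ ((I x).support : Set X) := by
        rw [Scheme.IdealSheafData.support_comap]; rfl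
      rw [e, hIs]
      exact not_not.symm
    · obtain ⟨x, hx, hzx⟩ := Set.mem_iUnion₂.1 (ht (Set.mem_univ (b z)))
      exact ⟨⟨x, hx⟩, hzx⟩

end Groth.Agent.RelPC13.AmpleFam
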